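import Mathlib
import Cfsg.Agent.Base
import Cfsg.Agent.Lib.Push.NatApi
import Cfsg.Agent.Lib.Thompson.SL2Sub
import Cfsg.Agent.Lib.AutCl.Galois
import Cfsg.Agent.Lib.InvChar.SylowIn
import Cfsg.Agent.Lib.H81.SubA8
import Cfsg.Agent.Lib.TwoGrp.Sec4A8

/-! A natural `SL₂(q)` whose normalizer contains a Sylow `p`-subgroup (helper90). -/

set_option autoImplicit false
set_option linter.unusedSectionVars false

namespace H90.NatL

open Subgroup H69 H24 H68.Push Cfsg Matrix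
open scoped MatrixGroups

variable {Γ F : Type*} [Group Γ] [Field F] [DistribMulAction Γ (Fin 2 → F)]

/-- `L` acts as `SL₂(F)` on the faithful module `F²`. -/
structure NatIn (L : Subgroup Γ) (ρ : L →* SL(2, F)) : Prop where
  faith : ∀ g : Γ, (∀ v : Fin 2 → F, g • v = v) → g = 1
  surj : Function.Surjective ρ
  act : ∀ (l : L) (v : Fin 2 → F), (l : Γ) • v = (ρ l : Matrix (Fin 2) (Fin 2) F) *ᵥ v

variable (Γ F) in
/-- The elements centralizing the first axis and the quotient by it. -/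
def uu : Subgroup Γ where
  carrier := {x | (∀ v : Fin 2 → F, v 1 = 0 → x • v = v) ∧ ∀ v : Fin 2 → F, (x • v) 1 = v 1}
  one_mem' := ⟨fun _ _ => one_smul _ _, fun _ => by rw [one_smul]⟩
  mul_mem' := fun {a b} ha hb => ⟨fun v hv => by rw [mul_smul, hb.1 v hv, ha.1 v hv],
    fun v => by rw [mul_smul, ha.2, hb.2]⟩
  inv_mem' := fun {a} ha => ⟨fun v hv => by rw [inv_smul_eq_iff, ha.1 v hv],
    fun v => by rw [← ha.2 (a⁻¹ • v), smul_inv_smul]⟩

theorem vec_eq {v : Fin 2 → F} (hv : v 1 = 0) {w : Fin 2 → F} (hw : w 1 = 0) (hw' : w ≠ 0) :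
    v = (v 0 / w 0) • w := by
  have h0 : w 0 ≠ 0 := fun h => hw' (by ext i; fin_cases i <;> simp [h, hw])
  ext i; fin_cases i <;> simp [hv, hw, h0]

variable [Finite Γ] [Finite F]

theorem mem_normalizer_uu {g : Γ} (h : ∀ v : Fin 2 → F, v 1 = 0 → (g • v) 1 = 0) :
    g ∈ 𝐍(uu Γ F) := by
  have h' : ∀ v : Fin 2 → F, v 1 = 0 → (g⁻¹ • v) 1 = 0 := fun v hv => by
    have h1 : ∀ n : ℕ, ∀ v : Fin 2 → F, v 1 = 0 → (g ^ n • v) 1 = 0 := fun n => by
      induction n with
      | zero => simp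
      | succ n ih => exact fun v hv => by rw [pow_succ, mul_smul]; exact ih _ (h v hv)
    have := h1 (orderOf g - 1) v hv
    rwa [eq_inv_of_mul_eq_one_left (a := g ^ (orderOf g - 1)) (b := g) (by
      rw [← pow_succ, Nat.sub_add_cancel (orderOf_pos g), pow_orderOf_eq_one])] at this
  refine H24.mem_normalizer_of_conj_mem fun x hx => ⟨fun v hv => ?_, fun v => ?_⟩
  · rw [mul_smul, mul_smul, hx.1 _ (h' v hv), smul_inv_smul]
  · have := h (x • g⁻¹ • v - g⁻¹ • v) (by rw [Pi.sub_apply, hx.2, sub_self])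
    rwa [smul_sub, smul_inv_smul, Pi.sub_apply, sub_eq_zero, ← mul_smul, ← mul_smul] at this

variable {L : Subgroup Γ} {ρ : L →* SL(2, F)} {p : ℕ} [hp : Fact p.Prime] [CharP F p]

namespace NatIn

theorem pow_eq (h : NatIn L ρ) {x : Γ} (hx : x ∈ uu Γ F) : x ^ p = 1 := h.faith _ fun v => by
  have h1 : ∀ n : ℕ, x ^ n • v = v + n • (x • v - v) := fun n => by
    induction n with
    | zero => simp
    | succ n ih =>
      rw [pow_succ', mul_smul, ih, smul_add, smul_comm x n,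
        hx.1 (x • v - v) (by rw [Pi.sub_apply, hx.2, sub_self]), succ_nsmul]
      abel
  rw [h1, ← Nat.cast_smul_eq_nsmul F, CharP.cast_eq_zero, zero_smul, add_zero]

theorem isP (h : NatIn L ρ) : IsPGroup p (uu Γ F) :=
  H69.isPGroup_iff_mem.2 fun x hx => ⟨1, by rw [pow_one, h.pow_eq hx]⟩

theorem comm (h : NatIn L ρ) {x y : Γ} (hx : x ∈ uu Γ F) (hy : y ∈ uu Γ F) : x * y = y * x := by
  have key : ∀ {x y : Γ}, x ∈ uu Γ F → y ∈ uu Γ F → ∀ v : Fin 2 → F,
      (x * y) • v = x • v + y • v - v := fun {x y} hx hy v => by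
    have := hx.1 (y • v - v) (by rw [Pi.sub_apply, hy.2, sub_self])
    rw [smul_sub, sub_eq_iff_eq_add] at this
    rw [mul_smul, this]; abel
  rw [← mul_inv_eq_one]
  refine h.faith _ fun v => ?_
  rw [mul_smul, key hx hy, add_comm, ← key hy hx, smul_inv_smul]

theorem exists_up (h : NatIn L ρ) (c : F) :
    ∃ x ∈ L, x ∈ uu Γ F ∧ ∀ v : Fin 2 → F, x • v = ![v 0 + c * v 1, v 1] := by
  obtain ⟨l, hl⟩ := h.surj (upT c)
  have h1 : ∀ v : Fin 2 → F, (l : Γ) • v = ![v 0 + c * v 1, v 1] := fun v => by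
    rw [h.act, hl, upT_mulVec]
  refine ⟨l, l.2, ⟨fun v hv => ?_, fun v => by rw [h1]; rfl⟩, h1⟩
  rw [h1]; ext i; fin_cases i <;> simp [hv]

theorem scalar (h : NatIn L ρ) (φ : (Fin 2 → F) →+ (Fin 2 → F))
    (hφ : ∀ l ∈ L, ∀ v, φ (l • v) = l • φ v) : ∃ a : F, ∀ v, φ v = a • v := by
  obtain ⟨x, hx, hx', e⟩ := h.exists_up 1
  have h1 : φ ![1, 0] 1 = 0 := by
    have := congrFun (hφ x hx ![1, 0]) 0
    rw [hx'.1 _ rfl, e] at this
    simpa using this
  have h2 : (![1, 0] : Fin 2 → F) ≠ 0 := fun h => by simpa using congrFun h 0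
  refine ⟨φ ![1, 0] 0 / (![1, 0] : Fin 2 → F) 0, fun v => ?_⟩
  · by_cases hv : v = 0
    · rw [hv, map_zero, smul_zero]
    obtain ⟨m, hm⟩ := exists_sl_mulVec h2 hv
    obtain ⟨l, rfl⟩ := h.surj m
    rw [← hm, ← h.act, hφ l l.2, h.act, h.act, ← mulVec_smul, ← vec_eq h1 rfl h2]

theorem exists_semi (h : NatIn L ρ) : ∃ s : 𝐍(L) →* RingAut F,
    ∀ (t : 𝐍(L)) (c : F) (v : Fin 2 → F), (t : Γ) • c • v = s t c • (t : Γ) • v := by
  have h1 : ∀ (t : 𝐍(L)) (c : F), ∃ a : F, ∀ v : Fin 2 → F,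
      (t : Γ) • c • v = a • (t : Γ) • v := fun t c => by
    obtain ⟨a, ha⟩ := h.scalar (AddMonoidHom.mk' (fun v => (t : Γ) • c • (t : Γ)⁻¹ • v)
      fun u v => by simp only [smul_add]) fun l hl v => by
        have h2 := h.act ⟨_, H24.conj_mem_of_mem_normalizer' t.2 hl⟩
        change (t : Γ) • c • (t : Γ)⁻¹ • l • v = l • (t : Γ) • c • (t : Γ)⁻¹ • v
        have h3 := h2 (c • (t : Γ)⁻¹ • v)
        rw [mulVec_smul, ← h2] at h3
        simp only [mul_smul, smul_inv_smul] at h3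
        rw [← h3, smul_inv_smul]
    exact ⟨a, fun v => by simpa using ha ((t : Γ) • v)⟩
  choose s hs using h1
  have h2 : ∀ (t : Γ) (a b : F), a • t • (![1, 0] : Fin 2 → F) = b • t • ![1, 0] → a = b :=
    fun t a b e => smul_left_injective F (fun h => by
      simpa using congrFun ((smul_eq_zero_iff_eq t).1 h) 0) e
  have h3 : ∀ t t' c, s (t * t') c = s t (s t' c) := fun t t' c => h2 (t * t' : 𝐍(L)) _ _ (by
    rw [← hs, coe_mul, mul_smul, hs, hs, mul_smul])
  have h4 : ∀ c, s 1 c = c := fun c => h2 (1 : 𝐍(L)) _ _ (by rw [← hs]; simp)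
  refine ⟨MonoidHom.mk' (fun t =>
    { toFun := s t
      invFun := s t⁻¹
      left_inv := fun c => by rw [← h3, inv_mul_cancel, h4]
      right_inv := fun c => by rw [← h3, mul_inv_cancel, h4]
      map_mul' := fun a b => h2 t _ _ (by rw [← hs, mul_smul, mul_smul, hs, hs])
      map_add' := fun a b => h2 t _ _ (by rw [← hs, add_smul, add_smul, smul_add, hs, hs]) })
    fun t t' => RingEquiv.ext (h3 t t'), hs⟩

theorem inj (h : NatIn L ρ) : Function.Injective ρ := (injective_iff_map_eq_one ρ).2 fun l hl =>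
  Subtype.ext (h.faith _ fun v => by rw [h.act, hl]; simp)

theorem e0_ne : (![1, 0] : Fin 2 → F) ≠ 0 := fun h => by simpa using congrFun h 0

variable {T : Sylow p Γ}

theorem exists_fix (h : NatIn L ρ) (hU : uu Γ F ⊓ L ≤ T) :
    ∃ w : Fin 2 → F, w ≠ 0 ∧ w 1 = 0 ∧ ∀ t ∈ (T : Subgroup Γ), t • w = w := by
  have := Fintype.ofFinite F
  obtain ⟨n, -, hn⟩ := FiniteField.card F p
  obtain ⟨w, hw, hw0⟩ := T.2.exists_fixed_point_of_prime_dvd_card_of_fixed_point (Fin 2 → F)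
    (by rw [Nat.card_fun, Nat.card_eq_fintype_card, hn, ← pow_mul]
        exact dvd_pow_self _ (by simp)) (a := 0) fun t => smul_zero _
  refine ⟨w, hw0.symm, ?_, fun t ht => hw ⟨t, ht⟩⟩
  obtain ⟨x, hx, hx', e⟩ := h.exists_up 1
  have := congrFun ((e w).symm.trans (hw ⟨x, hU ⟨hx', hx⟩⟩)) 0
  simpa using this

section
variable (h : NatIn L ρ) (hT : (T : Subgroup Γ) ≤ 𝐍(L)) (hU : uu Γ F ⊓ L ≤ T)
include h hT hU

theorem T_le : (T : Subgroup Γ) ≤ 𝐍(uu Γ F) := fun t ht => by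
  obtain ⟨w, hw0, hw1, hw⟩ := h.exists_fix hU
  obtain ⟨s, hs⟩ := h.exists_semi
  refine mem_normalizer_uu fun v hv => ?_
  rw [vec_eq hv hw1 hw0, hs ⟨t, hT ht⟩, hw t ht, Pi.smul_apply, hw1, smul_zero]

theorem le_T : uu Γ F ≤ T :=
  le_sup_right.trans (T.3 (T.2.to_sup_of_normal_right' h.isP (h.T_le hT hU)) le_sup_left).le

theorem up_of_lin {t : Γ} (ht : t ∈ (T : Subgroup Γ))
    (hl : ∀ (c : F) (v : Fin 2 → F), t • c • v = c • t • v) :
    t ∈ L ∧ t ∈ uu Γ F ∧ ∃ c : F, ∀ v : Fin 2 → F, t • v = ![v 0 + c * v 1, v 1] := by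
  obtain ⟨w, hw0, hw1, hw⟩ := h.exists_fix hU
  have h1 : t • (![1, 0] : Fin 2 → F) = ![1, 0] := by
    rw [vec_eq (v := ![1, 0]) rfl hw1 hw0, hl, hw t ht]
  have h2 : ∀ v : Fin 2 → F, t • v = ![v 0 + (t • (![0, 1] : Fin 2 → F)) 0 * v 1,
      (t • (![0, 1] : Fin 2 → F)) 1 * v 1] := fun v => by
    have : v = v 0 • ![1, 0] + v 1 • ![0, 1] := by ext i; fin_cases i <;> simp
    conv_lhs => rw [this, smul_add, hl, hl, h1]
    ext i; fin_cases i <;> simp [mul_comm]
  generalize (t • (![0, 1] : Fin 2 → F)) 0 = c at h2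
  generalize (t • (![0, 1] : Fin 2 → F)) 1 = b at h2
  have h3 : ∀ (n : ℕ) (v : Fin 2 → F), (t ^ n • v) 1 = b ^ n * v 1 := fun n v => by
    induction n with
    | zero => simp
    | succ n ih => rw [pow_succ', mul_smul, h2, pow_succ', mul_assoc, ← ih]; rfl
  obtain ⟨k, hk⟩ := H69.isPGroup_iff_mem.1 T.2 t ht
  have h4 : b = 1 := by
    have := h3 (p ^ k) ![0, 1]
    rw [hk, one_smul] at this
    have h5 : (b - 1) ^ p ^ k = 0 := by rw [sub_pow_char_pow, one_pow, sub_eq_zero]; simpa using this.symm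
    exact sub_eq_zero.1 (pow_eq_zero_iff (pow_ne_zero _ hp.out.ne_zero) |>.1 h5)
  obtain ⟨x, hx, hx', e⟩ := h.exists_up c
  have : t = x := by
    rw [← inv_mul_eq_one]
    refine h.faith _ fun v => ?_
    rw [mul_smul, inv_smul_eq_iff, e, h2, h4, one_mul]
  exact ⟨this ▸ hx, this ▸ hx', c, this ▸ e⟩

theorem mem_uu_iff {s : 𝐍(L) →* RingAut F} (hs : ∀ (t : 𝐍(L)) (c : F) (v : Fin 2 → F),
    (t : Γ) • c • v = s t c • (t : Γ) • v) {t : Γ} (ht : t ∈ (T : Subgroup Γ)) :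
    t ∈ uu Γ F ↔ s ⟨t, hT ht⟩ = 1 := by
  refine ⟨fun hu => RingEquiv.ext fun c => ?_, fun e => (h.up_of_lin hT hU ht fun c v => ?_).2.1⟩
  · have := congrFun (hs ⟨t, hT ht⟩ c ![1, 0]) 0
    rw [hu.1 _ (by simp), hu.1 _ rfl] at this
    simpa using this.symm
  · rw [hs ⟨t, hT ht⟩, e]; rfl

theorem up {x : Γ} (hx : x ∈ uu Γ F) :
    x ∈ L ∧ ∃ c : F, ∀ v : Fin 2 → F, x • v = ![v 0 + c * v 1, v 1] := by
  obtain ⟨s, hs⟩ := h.exists_semi
  have ht := h.le_T hT hU hx
  have := h.up_of_lin hT hU ht fun c v => by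
    rw [hs ⟨x, hT ht⟩, (h.mem_uu_iff hT hU hs ht).1 hx]; rfl
  exact ⟨this.1, this.2.2⟩

theorem fix {x : Γ} (hx : x ∈ uu Γ F) (h1 : x ≠ 1) {v : Fin 2 → F} (hv : x • v = v) : v 1 = 0 := by
  obtain ⟨-, c, e⟩ := h.up hT hU hx
  by_contra h0
  have := congrFun ((e v).symm.trans hv) 0
  have hc : c = 0 := by simpa [h0] using this
  exact h1 (h.faith _ fun v => by rw [e, hc]; ext i; fin_cases i <;> simp)

theorem card_uu : Nat.card (uu Γ F) = Nat.card F := by
  refine Nat.card_eq_of_bijective (fun x => ((x : Γ) • (![0, 1] : Fin 2 → F)) 0)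
    ⟨fun x y e => Subtype.ext ?_, fun c => ?_⟩
  · obtain ⟨-, c, hc⟩ := h.up hT hU x.2
    obtain ⟨-, d, hd⟩ := h.up hT hU y.2
    have : c = d := by simpa [hc, hd] using e
    rw [← inv_mul_eq_one]
    exact h.faith _ fun v => by rw [mul_smul, hd, ← this, ← hc, inv_smul_smul]
  · obtain ⟨x, -, hx, e⟩ := h.exists_up c
    exact ⟨⟨x, hx⟩, by simp [e]⟩

theorem ti {x g : Γ} (hx : x ∈ uu Γ F) (h1 : x ≠ 1) (hg : g * x * g⁻¹ ∈ uu Γ F)
    {v : Fin 2 → F} (hv : v 1 = 0) : (g • v) 1 = 0 :=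
  h.fix hT hU hg (by simpa using h1) (by rw [mul_smul, inv_smul_smul, mul_smul, hx.1 v hv])

theorem normal_of_sc (hsc : ∀ g : Γ, ∀ x ∈ uu Γ F, g * x * g⁻¹ ∈ (T : Subgroup Γ) →
    g * x * g⁻¹ ∈ uu Γ F) : L.Normal := by
  have key : ∀ g : Γ, g • (![1, 0] : Fin 2 → F) = ![1, 0] → g ∈ 𝐍(uu Γ F) := fun g hg => by
    refine mem_normalizer_uu fun v hv => by_contra fun h0 => ?_
    obtain ⟨u, -, hu, e⟩ := h.exists_up ((g • v) 1)⁻¹
    let Y : Subgroup Γ :=
      { carrier := {x | x • (![1, 0] : Fin 2 → F) = ![1, 0] ∧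
          ∃ n : ℤ, x • g • v = g • v + n • ![1, 0]}
        one_mem' := ⟨one_smul _ _, 0, by simp⟩
        mul_mem' := fun {a b} ⟨ha, n, hn⟩ ⟨hb, m, hm⟩ => ⟨by rw [mul_smul, hb, ha], n + m, by
          rw [mul_smul, hm, smul_add, hn, smul_comm a m, ha, add_smul, add_assoc]⟩
        inv_mem' := fun {a} ⟨ha, n, hn⟩ => ⟨by rw [inv_smul_eq_iff, ha], -n, by
          rw [inv_smul_eq_iff, smul_add, hn, smul_comm a (-n), ha, neg_smul, add_neg_cancel_right]⟩ }
    have huY : u ∈ Y := ⟨hu.1 _ rfl, 1, by rw [e]; ext i; fin_cases i <;> simp [h0]⟩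
    have hu1 : u ≠ 1 := fun h1 => by
      have := congrFun (e (g • v)) 0
      simp [h1, h0] at this
    obtain ⟨y, hy, Q, hQ, -, h1, h2⟩ := H72.exists_conj_pgroup (H := Y) (h.isP.to_le (zpowers_le.2 hu))
      (H72.isPGroup_map_conj (p := p) h.isP g) (zpowers_le.2 huY) (by
        rintro _ ⟨x, hx, rfl⟩
        refine ⟨?_, 0, ?_⟩
        · have := hx.1 ![1, 0] rfl
          simp [mul_smul, inv_smul_eq_iff.2 hg.symm, this, hg]
        · simp [mul_smul, hx.1 v hv])
    obtain ⟨k, -, hk⟩ := H72.exists_conj_mem_sylow_of_le T le_top hQ le_top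
    have h3 : (k * y) * u * (k * y)⁻¹ ∈ uu Γ F := hsc _ _ hu (by
      simpa [mul_assoc] using hk _ (h2 u (mem_zpowers u)))
    have h4 : (k * g) * u * (k * g)⁻¹ ∈ uu Γ F := hsc _ _ hu (by
      simpa [mul_assoc] using hk _ (h1 (H72.conj_mem_map_conj hu)))
    have h5 := h3.1 _ (h.ti hT hU hu hu1 h4 hv)
    obtain ⟨n, hn⟩ := (Y.inv_mem hy).2
    have h6 : u • y⁻¹ • g • v = y⁻¹ • g • v := by
      simp only [mul_smul, _root_.mul_inv_rev, inv_smul_smul, smul_left_cancel_iff] at h5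
      rw [eq_inv_smul_iff, h5]
    have := h.fix hT hU hu hu1 h6
    rw [hn] at this
    exact h0 (by simpa using this)
  have h1 : uu Γ F ≤ L.normalCore := fun x hx g => by
    obtain ⟨m, hm⟩ := exists_sl_mulVec ((smul_ne_zero_iff_ne g).2 e0_ne) (e0_ne (F := F))
    obtain ⟨l, rfl⟩ := h.surj m
    rw [← h.act, ← mul_smul] at hm
    have := (h.up hT hU (H72.conj_mem_of_mem_normalizer (key _ hm) hx)).1
    simpa [mul_assoc] using L.mul_mem (L.mul_mem (L.inv_mem l.2) this) l.2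
  have h2 : ∀ c, upT c ∈ (L.normalCore.subgroupOf L).map ρ := fun c => by
    obtain ⟨x, hx, hx', e⟩ := h.exists_up c
    refine ⟨⟨x, hx⟩, h1 hx', Subtype.ext (Matrix.ext_of_mulVec_single fun i => ?_)⟩
    rw [← h.act, upT_mulVec]; exact e _
  have : ((L.normalCore.subgroupOf L).map ρ).Normal := Normal.map inferInstance ρ h.surj
  have h3 := eq_top_of_upT_loT h2 fun c => by
    convert this.conj_mem _ (h2 (-c)) (upT (-1) * loT 1 * upT (-1))
    refine eq_mul_inv_iff_mul_eq.2 (Subtype.ext (Matrix.ext_iff_mulVec.2 fun v => ?_))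
    simp only [Matrix.SpecialLinearGroup.coe_mul, ← mulVec_mulVec, upT_mulVec, loT_mulVec]
    ext i; fin_cases i <;> simp <;> ring
  refine (le_antisymm L.normalCore_le fun l hl => ?_ : L.normalCore = L) ▸ L.normalCore_normal
  obtain ⟨y, hy, e⟩ := h3.ge (mem_top (ρ ⟨l, hl⟩))
  rw [h.inj e] at hy
  exact hy

theorem small_of_not_sc {g x : Γ} (hx : x ∈ uu Γ F) (ht : g * x * g⁻¹ ∈ (T : Subgroup Γ))
    (ht' : g * x * g⁻¹ ∉ uu Γ F) : p = 2 ∧ Nat.card F = 4 ∧ Nat.card T = 8 := by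
  classical
  obtain ⟨s, hs⟩ := h.exists_semi
  obtain ⟨w, hw0, hw1, hw⟩ := h.exists_fix hU
  have hx1 : x ≠ 1 := fun e => ht' (by simp [e, one_mem])
  have hσ : s ⟨_, hT ht⟩ ≠ 1 := fun e => ht' ((h.mem_uu_iff hT hU hs ht).2 e)
  have q : ∀ v : Fin 2 → F, (g * x * g⁻¹) • ((g * x * g⁻¹) • v - v) = (g * x * g⁻¹) • v - v :=
    fun v => by
      have := hx.1 (x • g⁻¹ • v - g⁻¹ • v) (by rw [Pi.sub_apply, hx.2, sub_self])
      have h2 := congrArg (g • ·) this
      simpa [mul_smul, smul_sub] using h2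
  have hp2 : p = 2 := by
    by_contra h2
    refine hσ (RingEquiv.ext fun a => ?_)
    generalize hσ' : s ⟨_, hT ht⟩ = σ
    have h3 : ∀ c, σ (σ c) = 2 * σ c - c := fun c => by
      have := q (c • w)
      rw [hs ⟨_, hT ht⟩, hw _ ht, ← sub_smul, hs ⟨_, hT ht⟩, hw _ ht, hσ', map_sub] at this
      linear_combination smul_left_injective F hw0 this
    have h4 := h3 (a * a)
    rw [map_mul, map_mul, h3] at h4
    have h5 : (2 : F) ≠ 0 := fun e => h2 ((Nat.prime_dvd_prime_iff_eq hp.out Nat.prime_two).1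
      ((CharP.cast_eq_zero_iff F p 2).1 (by simpa using e)))
    have : (2 : F) * (σ a - a) ^ 2 = 0 := by linear_combination h4
    exact sub_eq_zero.1 (pow_eq_zero_iff two_ne_zero |>.1 ((mul_eq_zero.1 this).resolve_left h5))
  subst hp2
  set t := g * x * g⁻¹ with htdef
  have ht2 : t * t = 1 := by rw [← pow_two, htdef, conj_pow, h.pow_eq hx]; simp
  have hinv : ∀ {y}, y ∈ uu Γ F → y * y = 1 := fun hy => by rw [← pow_two, h.pow_eq hy]
  let C : Subgroup Γ := uu Γ F ⊓ centralizer {t}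
  obtain ⟨n, hn, hnT⟩ := H72.exists_conj_mem_sylow_of_le T (h.T_le hT hU)
    (H72.isPGroup_map_conj (p := 2) (h.isP.to_le (inf_le_left : C ≤ _)) g⁻¹) (by
      rintro _ ⟨y, hy, rfl⟩
      refine mem_normalizer_uu fun v hv => h.ti hT hU hx hx1 ?_ hv
      have := (mem_centralizer_singleton_iff.1 hy.2)
      have e : (MulAut.conj g⁻¹).toMonoidHom y * x * ((MulAut.conj g⁻¹).toMonoidHom y)⁻¹ = x := by
        rw [mul_inv_eq_iff_eq_mul]
        simpa [htdef, mul_assoc] using congrArg (fun z => g⁻¹ * z * g) this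
      rwa [e])
  have hnT' : ∀ y ∈ C, n * g⁻¹ * y * (n * g⁻¹)⁻¹ ∈ (T : Subgroup Γ) := fun y hy => by
    simpa [mul_assoc] using hnT _ (H72.conj_mem_map_conj (g := g⁻¹) hy)
  let φ : C →* RingAut F := s.comp (MonoidHom.codRestrict
    ((MulAut.conj (n * g⁻¹)).toMonoidHom.comp C.subtype) _ fun y => hT (hnT' y y.2))
  have hφ : Function.Injective φ := (injective_iff_map_eq_one φ).2 fun y hy => by
    by_contra h1
    have h2 := (h.mem_uu_iff hT hU hs (hnT' y y.2)).2 hy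
    have h3 : n * g⁻¹ ∈ 𝐍(uu Γ F) := mem_normalizer_uu fun v hv =>
      h.ti hT hU y.2.1 (fun e => h1 (Subtype.ext e)) h2 hv
    have h4 : g ∈ 𝐍(uu Γ F) := by simpa using mul_mem (inv_mem h3) hn
    exact ht' (H72.conj_mem_of_mem_normalizer h4 hx)
  have hC : Nat.card C ≤ 2 := by
    have := Fintype.ofFinite (RingAut F)
    refine le_trans ?_ (IsCyclic.card_pow_eq_one_le (α := RingAut F) two_pos)
    rw [← Fintype.card_subtype, ← Nat.card_eq_fintype_card]
    exact Nat.card_le_card_of_injective (fun y => ⟨φ y, by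
      rw [← map_pow, show y ^ 2 = 1 from Subtype.ext (h.pow_eq y.2.1), map_one]⟩)
      fun a b e => hφ (congrArg Subtype.val e)
  have htN := h.T_le hT hU ht
  let ψ : uu Γ F →* Γ := MonoidHom.mk' (fun y => y * (t * y * t⁻¹)) fun a b => by
    have := h.comm b.2 (H72.conj_mem_of_mem_normalizer htN a.2)
    calc _ = a * ((b : Γ) * (t * a * t⁻¹)) * (t * b * t⁻¹) := by simp [mul_assoc]
      _ = _ := by rw [this]; simp [mul_assoc]
  have h1 : Nat.card ψ.range ≤ Nat.card C := card_le_of_le (by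
    rintro _ ⟨y, rfl⟩
    have h2 := H72.conj_mem_of_mem_normalizer htN y.2
    refine ⟨mul_mem y.2 h2, mem_centralizer_singleton_iff.2 ?_⟩
    change (y : Γ) * (t * y * t⁻¹) * t = t * (y * (t * y * t⁻¹))
    conv_rhs => rw [h.comm y.2 h2]
    rw [inv_eq_of_mul_eq_one_right ht2]
    simp only [← mul_assoc, ht2, one_mul]
    simp only [mul_assoc, ht2, mul_one])
  have h2 : Nat.card ψ.ker ≤ Nat.card C := by
    rw [← card_map_of_injective (uu Γ F).subtype_injective]
    refine card_le_of_le ?_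
    rintro _ ⟨y, hy, rfl⟩
    refine ⟨y.2, mem_centralizer_singleton_iff.2 ?_⟩
    have : t * y * t⁻¹ = y := mul_left_cancel ((show (y : Γ) * (t * y * t⁻¹) = 1 from hy).trans
      (hinv y.2).symm)
    exact (mul_inv_eq_iff_eq_mul.1 this).symm
  have h3 := card_eq_of_hom ψ
  rw [h.card_uu hT hU] at h3
  have := Fintype.ofFinite F
  obtain ⟨f, -, hf⟩ := FiniteField.card F 2
  rw [← Nat.card_eq_fintype_card] at hf
  have h4 := H67.card_ringAut hf
  have h5 : 2 ≤ (f : ℕ) := h4 ▸ Finite.one_lt_card_iff_nontrivial.2 ⟨_, _, hσ⟩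
  have h6 : Nat.card F = 4 := le_antisymm (h3 ▸ Nat.mul_le_mul (h1.trans hC) (h2.trans hC))
    (hf ▸ Nat.pow_le_pow_right two_pos h5)
  have h7 : (f : ℕ) = 2 := Nat.pow_right_injective le_rfl (hf.symm.trans h6)
  refine ⟨rfl, h6, ?_⟩
  let χ : (T : Subgroup Γ) →* RingAut F := s.comp (inclusion hT)
  have h8 : χ.ker = (uu Γ F).subgroupOf T :=
    Subgroup.ext fun y => (h.mem_uu_iff hT hU hs y.2).symm
  have h9 : Nat.card χ.range = 2 := le_antisymm ((card_le_card_group _).trans_eq (h4.trans h7))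
    (Finite.one_lt_card_iff_nontrivial.2 ⟨⟨_, ⟨_, ht⟩, rfl⟩, 1, fun e => hσ (congrArg Subtype.val e)⟩)
  rw [card_eq_of_hom χ, h9, h8, Nat.card_congr (subgroupOfEquivOfLe (h.le_T hT hU)).toEquiv,
    h.card_uu hT hU, h6]

end

end NatIn

theorem exists_stab_hom {G α : Type*} [Group G] [MulAction G α] (b : α) :
    ∃ φ : MulAction.stabilizer G b →* Equiv.Perm {x // x ≠ b}, ∀ g c, (φ g c : α) = (g : G) • c :=
  ⟨MulAction.toPermHom _ (SubMulAction.ofStabilizer G b), fun _ _ => rfl⟩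

theorem iso_A7 (f : Γ →* H81.A8.A8) (hf : Function.Injective f) (hc : Nat.card Γ = 2520) :
    Nonempty (Γ ≃* alternatingGroup (Fin 7)) := by
  classical
  have h1 : f.range.index = 8 := by
    have := f.range.card_mul_index
    rw [← Nat.card_congr (MonoidHom.ofInjective hf).toEquiv, hc, H81.A8.card_A8] at this
    omega
  let b : H81.A8.A8 ⧸ f.range := ((1 : H81.A8.A8) : _)
  obtain ⟨ψ, hψ⟩ := exists_stab_hom (G := H81.A8.A8) b
  have h2 : Nat.card {x // x ≠ b} = 7 := by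
    have := Fintype.ofFinite (H81.A8.A8 ⧸ f.range)
    rw [Nat.card_eq_fintype_card, Fintype.card_subtype_compl, Fintype.card_subtype_eq,
      ← Nat.card_eq_fintype_card, ← index_eq_card, h1]
  have e := Finite.equivFinOfCardEq h2
  let φ : Γ →* Equiv.Perm (Fin 7) := e.permCongrHom.toMonoidHom.comp
    (ψ.comp (f.codRestrict _ fun x => (MulAction.stabilizer_quotient f.range).ge ⟨x, rfl⟩))
  have h3 : Function.Injective φ := (injective_iff_map_eq_one φ).2 fun x hx => by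
    have h4 : f.range.normalCore = ⊥ := (f.range.normalCore_normal.eq_bot_or_eq_top).resolve_right
      fun e => by
        have := index_dvd_of_le (e ▸ f.range.normalCore_le : ⊤ ≤ f.range)
        simp [h1] at this
    refine hf ((mem_bot.1 (h4.le ?_)).trans (map_one f).symm)
    rw [normalCore_eq_ker]
    refine Equiv.ext fun c => ?_
    by_cases hc : c = b
    · exact hc ▸ (MulAction.stabilizer_quotient f.range).ge ⟨x, rfl⟩
    · have := (map_eq_one_iff _ e.permCongrHom.injective).1 hx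
      exact (hψ _ ⟨c, hc⟩).symm.trans (congrArg Subtype.val (Equiv.congr_fun this ⟨c, hc⟩))
  have h4 : φ.range.index = 2 := by
    have := φ.range.card_mul_index
    rw [← Nat.card_congr (MonoidHom.ofInjective h3).toEquiv, hc, Nat.card_perm] at this
    simp [Nat.factorial] at this
    omega
  exact ⟨(MonoidHom.ofInjective h3).trans
    (MulEquiv.subgroupCongr (Equiv.Perm.eq_alternatingGroup_of_index_eq_two h4))⟩

theorem endgame (f : Γ →* H81.A8.A8) (hf : Function.Injective f) [IsSimpleGroup L]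
    (hL : Nat.card L = 60) {T : Sylow 2 Γ} (hT : (T : Subgroup Γ) ≤ 𝐍(L)) (h8 : Nat.card T = 8) :
    L.Normal ∨ Nonempty (Γ ≃* alternatingGroup (Fin 7)) := by
  have hd := (H81.A8.card_cases f hf).1
  have hle : ∀ K : Subgroup Γ, K.Normal → K.index < 60 → L ≤ K := fun K _ hK => by
    rcases (inferInstance : (K.subgroupOf L).Normal).eq_bot_or_eq_top with e | e
    · have := Nat.le_of_dvd (Nat.pos_of_ne_zero K.index_ne_zero_of_finite)
        (relIndex_dvd_index_of_normal K L)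
      rw [relIndex, e, index_bot] at this
      omega
    · exact subgroupOf_eq_top.1 e
  have key : ∀ K : Subgroup Γ, K.Normal → L ≤ K → K ≤ 𝐍(L) → L.Normal := fun K hK h1 h2 => by
    refine ⟨fun l hl g => ?_⟩
    have h3 : L.map (MulAut.conj g⁻¹).toMonoidHom ≤ K := by
      rintro _ ⟨x, hx, rfl⟩; exact hK.conj_mem _ (h1 hx) _
    have : ((L.map (MulAut.conj g⁻¹).toMonoidHom).subgroupOf L).Normal := ⟨fun x hx y => by
      rw [mem_subgroupOf, H72.mem_map_conj] at hx ⊢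
      simpa [mul_assoc] using H72.conj_mem_of_mem_normalizer (h2 (hK.conj_mem _ (h1 y.2) g)) hx⟩
    rcases this.eq_bot_or_eq_top with e | e
    · have : (L.subgroupOf K).Normal := (normal_subgroupOf_iff_le_normalizer h1).2 h2
      have h4 := relIndex_dvd_index_of_normal (L.subgroupOf K)
        ((L.map (MulAut.conj g⁻¹).toMonoidHom).subgroupOf K)
      rw [relIndex_subgroupOf h3, relIndex, subgroupOf_eq_bot.2 (subgroupOf_eq_bot.1 e).symm,
        index_bot, H72.card_map_conj, hL] at h4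
      have h5 := (L.subgroupOf K).card_mul_index
      rw [Nat.card_congr (subgroupOfEquivOfLe h1).toEquiv, hL] at h5
      have h6 := (h5 ▸ Nat.mul_dvd_mul_left 60 h4).trans ((card_subgroup_dvd_card K).trans hd)
      omega
    · simpa using H72.mem_map_conj.1 (subgroupOf_eq_top.1 e hl)
  have hN : 120 ∣ Nat.card 𝐍(L) := Nat.lcm_dvd (m := 60) (n := 8) (hL ▸ card_dvd_of_le le_normalizer)
    (h8 ▸ card_dvd_of_le hT)
  have h16 : ¬ 16 ∣ Nat.card Γ := fun h => by
    have := T.pow_dvd_card_of_pow_dvd_card (n := 4) h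
    omega
  have h1 := 𝐍(L).card_mul_index
  obtain ⟨a, ha⟩ := hN
  obtain ⟨m, hm⟩ : ∃ m, m = a * 𝐍(L).index := ⟨_, rfl⟩
  have h2 : Nat.card Γ = 120 * m := by rw [← h1, ha, hm, mul_assoc]
  have h3 : m ∣ 21 := by
    have : m ∣ 8 * 21 := Nat.dvd_of_mul_dvd_mul_left (by norm_num : 0 < 120) (h2 ▸ hd)
    refine Nat.Coprime.dvd_of_dvd_mul_left (Nat.Coprime.pow_right 3 (?_ : m.Coprime 2)) this
    exact Nat.coprime_two_right.2 (Nat.odd_iff.2 (by omega))
  have h4 : m = 1 ∨ m = 3 ∨ m = 7 ∨ m = 21 := by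
    have := Nat.le_of_dvd (by norm_num) h3
    interval_cases m <;> omega
  have h5 : 𝐍(L).index ∣ m := hm ▸ dvd_mul_left _ _
  rcases h4 with rfl | rfl | rfl | rfl
  · exact .inl (normalizer_eq_top_iff.1 (index_eq_one.1 (Nat.dvd_one.1 h5)))
  · refine .inl (key _ 𝐍(L).normalCore_normal (hle _ inferInstance ?_) 𝐍(L).normalCore_le)
    have h6 : 𝐍(L).normalCore.index ∣ 𝐍(L).index.factorial := by
      rw [normalCore_eq_ker, index_ker, index_eq_card, ← Nat.card_perm]
      exact card_subgroup_dvd_card _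
    exact (Nat.le_of_dvd (Nat.factorial_pos _) (h6.trans (Nat.factorial_dvd_factorial
      (Nat.le_of_dvd three_pos h5)))).trans_lt (by decide)
  · have : Fact (Nat.Prime 7) := ⟨by norm_num⟩
    obtain ⟨P⟩ : Nonempty (Sylow 7 Γ) := inferInstance
    have hP : Nat.card P = 7 := by
      rw [P.card_eq_multiplicity, h2, show 120 * 7 = 7 ^ 1 * 120 by norm_num,
        Nat.factorization_mul_apply_of_coprime (by norm_num), Nat.factorization_pow_self (by norm_num),
        Nat.factorization_eq_zero_of_not_dvd (by norm_num)]; rfl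
    have h6 := H81.A8.card_norm_dvd f hf P hP
    have h7 := card_sylow_modEq_one 7 Γ
    have h9 := (normalizer ((P : Subgroup Γ) : Set Γ)).card_mul_index
    rw [P.card_eq_index_normalizer] at h7
    have h10 : 7 ∣ Nat.card (normalizer ((P : Subgroup Γ) : Set Γ)) :=
      (dvd_of_eq hP.symm).trans (card_dvd_of_le le_normalizer)
    have h11 : Nat.card (normalizer ((P : Subgroup Γ) : Set Γ)) = 7 := by
      have := Nat.le_of_dvd (by norm_num) h6
      change (normalizer ((P : Subgroup Γ) : Set Γ)).index % 7 = 1 % 7 at h7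
      generalize Nat.card (normalizer ((P : Subgroup Γ) : Set Γ)) = c at *
      interval_cases c <;> omega
    have h12 : normalizer ((P : Subgroup Γ) : Set Γ) = P :=
      (eq_of_le_of_card_ge le_normalizer (by omega)).symm
    have := isCyclic_of_prime_card hP
    have h13 := MonoidHom.ker_transferSylow_isComplement' P
      (h12.le.trans (le_centralizer (P : Subgroup Γ)))
    generalize_proofs at h13
    set K := (MonoidHom.transferSylow P ‹_›).ker
    have h14 : K.index = 7 := h13.symm.index_eq_card.trans hP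
    have h15 := hle K inferInstance (by omega)
    refine .inl (key K inferInstance h15 ((normal_subgroupOf_iff_le_normalizer h15).1
      (normal_of_index_eq_two ?_)))
    have h16 := (L.subgroupOf K).card_mul_index
    have h17 := K.card_mul_index
    rw [Nat.card_congr (subgroupOfEquivOfLe h15).toEquiv, hL] at h16
    rw [h14] at h17
    omega
  · exact .inr (iso_A7 f hf h2)

theorem NatIn.main (h : NatIn L ρ)
    (hS : ∀ S : Sylow p 𝐍(L), ∀ P : Sylow p Γ, Nat.card S = Nat.card P) :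
    L.Normal ∨ (Nat.card F = 4 ∧ Nonempty (Γ ≃* alternatingGroup (Fin 7))) := by
  obtain ⟨S, hS'⟩ := (H72.isPGroup_subgroupOf (H := 𝐍(L))
    (h.isP.to_le (inf_le_left : uu Γ F ⊓ L ≤ _))).exists_le_sylow
  obtain ⟨P⟩ : Nonempty (Sylow p Γ) := inferInstance
  let T := Sylow.ofCard (p := p) ((S : Subgroup 𝐍(L)).map 𝐍(L).subtype) (by
    rw [card_map_of_injective (subtype_injective _), hS S P, P.card_eq_multiplicity])
  have hT : (T : Subgroup Γ) ≤ 𝐍(L) := map_subtype_le _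
  have hU : uu Γ F ⊓ L ≤ T := fun x hx => ⟨⟨x, le_normalizer hx.2⟩, hS' hx, rfl⟩
  by_cases hsc : ∀ g : Γ, ∀ x ∈ uu Γ F, g * x * g⁻¹ ∈ (T : Subgroup Γ) → g * x * g⁻¹ ∈ uu Γ F
  · exact .inl (h.normal_of_sc hT hU hsc)
  push Not at hsc
  obtain ⟨g, x, hx, ht, ht'⟩ := hsc
  obtain ⟨rfl, h4, h8⟩ := h.small_of_not_sc hT hU hx ht ht'
  have e := MulEquiv.ofBijective ρ ⟨h.inj, h.surj⟩
  have : IsSimpleGroup SL(2, F) := by
    have := H10.isSimpleGroup_PSL_fin (F := F) 2 le_rfl fun _ => h4.ge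
    exact (H10.quotCenterEquivOfBot (card_eq_one.1 (by
      rw [H10.card_center_SL, h4]; rfl))).symm.isSimpleGroup
  have := e.isSimpleGroup
  obtain ⟨f1, hf1⟩ := H13.TG.exists_aut_GL (W := Multiplicative (Fin 2 → F)) (p := 2) inferInstance
    (fun w => by
      rw [← ofAdd_toAdd w, ← ofAdd_nsmul, ← Nat.cast_smul_eq_nsmul F, CharP.cast_eq_zero, zero_smul]
      rfl) (n := 4) (by rw [Nat.card_congr Multiplicative.toAdd, Nat.card_fun, h4]; simp)
  obtain ⟨f2, hf2⟩ := H13.TG.exists_GL4_A8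
  let f0 : Γ →* MulAut (Multiplicative (Fin 2 → F)) := MonoidHom.mk'
    (fun g => AddEquiv.toMultiplicative (DistribMulAction.toAddEquiv _ g)) fun a b =>
      MulEquiv.ext fun v => mul_smul a b v.toAdd
  have hf0 : Function.Injective f0 := (injective_iff_map_eq_one f0).2 fun g hg =>
    h.faith g fun v => MulEquiv.congr_fun hg (Multiplicative.ofAdd v)
  exact (endgame (f2.comp (f1.comp f0)) (hf2.comp (hf1.comp hf0))
    (by rw [Nat.card_congr e.toEquiv, H10.card_SL_two, h4]) hT h8).imp_right fun h => ⟨h4, h⟩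

theorem force_eqs : True := by
  have := @uu.eq_1.{0, 0}
  trivial

end H90.NatL
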